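import Mathlib

/-!
# The semistable node `V[x, y]/(xy - ϖ)` and logarithmic differentials
-/

set_option linter.style.haveILetI false

namespace Groth.Agent.H4Node

universe u v

open MvPolynomial TrivSqZeroExt IsLocalRing

variable {V : Type u} [CommRing V]

/-- The node relation. -/
noncomputable abbrev I (ϖ : V) : Ideal (MvPolynomial (Fin 2) V) :=
  Ideal.span {(X 0 * X 1 - C ϖ : MvPolynomial (Fin 2) V)}

/-- The node ring. -/
abbrev N (ϖ : V) : Type u := MvPolynomial (Fin 2) V ⧸ I ϖ

variable {ϖ : V}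

/-- The coordinates. -/
noncomputable abbrev co (l : Fin 2) : N ϖ := Ideal.Quotient.mk (I ϖ) (X l)

theorem co_mul_co : (co 0 : N ϖ) * co 1 = algebraMap V (N ϖ) ϖ := by
  rw [← map_mul, ← sub_eq_zero, ← Ideal.Quotient.mk_algebraMap, ← map_sub,
    Ideal.Quotient.eq_zero_iff_mem]
  exact Ideal.subset_span rfl

theorem co_mul_co' {i j : Fin 2} (hij : i ≠ j) : (co i : N ϖ) * co j = algebraMap V (N ϖ) ϖ := by
  fin_cases i <;> fin_cases j <;> first | exact absurd rfl hij | exact co_mul_co | (rw [mul_comm]; exact co_mul_co)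

/-- Maps out of the node ring. -/
noncomputable def lift {C : Type v} [CommRing C] [Algebra V C] (c : Fin 2 → C)
    (hc : c 0 * c 1 = algebraMap V C ϖ) : N ϖ →ₐ[V] C :=
  Ideal.Quotient.liftₐ (I ϖ) (aeval c) fun a ha => by
    obtain ⟨r, rfl⟩ := Ideal.mem_span_singleton'.mp ha
    simp [hc]

@[simp] theorem lift_co {C : Type v} [CommRing C] [Algebra V C] (c : Fin 2 → C)
    (hc : c 0 * c 1 = algebraMap V C ϖ) (l : Fin 2) : lift c hc (co l) = c l := by
  simp [lift, co]

theorem algHom_ext {C : Type v} [Semiring C] [Algebra V C] {f g : N ϖ →ₐ[V] C}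
    (h : ∀ l, f (co l) = g (co l)) : f = g :=
  Ideal.Quotient.algHom_ext _ (MvPolynomial.algHom_ext h)

variable {h : N ϖ}

/-- The coordinates on the open neighbourhood. -/
noncomputable abbrev gen (h : N ϖ) (l : Fin 2) : Localization.Away h :=
  algebraMap (N ϖ) (Localization.Away h) (co l)

theorem gen_mul_gen {i j : Fin 2} (hij : i ≠ j) :
    gen h i * gen h j = algebraMap V (Localization.Away h) ϖ := by
  rw [← map_mul, co_mul_co' hij, ← IsScalarTower.algebraMap_apply]

theorem induction_node {P : Localization.Away h → Prop} (hV : ∀ v, P (algebraMap V _ v))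
    (hX : ∀ l, P (gen h l)) (hadd : ∀ a b, P a → P b → P (a + b))
    (hmul : ∀ a b, P a → P b → P (a * b))
    (hdiv : ∀ b s, IsUnit s → P s → P (b * s) → P b) (b : Localization.Away h) : P b := by
  have hN : ∀ a : N ϖ, P (algebraMap (N ϖ) (Localization.Away h) a) := by
    intro a
    obtain ⟨p, rfl⟩ := Ideal.Quotient.mk_surjective a
    induction p using MvPolynomial.induction_on with
    | C a =>
      rw [← MvPolynomial.algebraMap_eq, Ideal.Quotient.mk_algebraMap, ← IsScalarTower.algebraMap_apply]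
      exact hV a
    | add p q hp hq => rw [map_add, map_add]; exact hadd _ _ hp hq
    | mul_X p l hp => rw [map_mul, map_mul]; exact hmul _ _ hp (hX l)
  obtain ⟨⟨a, s⟩, hs⟩ := IsLocalization.surj (Submonoid.powers h) b
  exact hdiv b _ (IsLocalization.map_units (Localization.Away h) s) (hN _) (hs ▸ hN a)

/-- A first order map out of the open neighbourhood. -/
theorem exists_dual {C : Type v} [CommRing C] [Algebra V C] [Algebra (Localization.Away h) C]
    [IsScalarTower V (Localization.Away h) C] (d : Fin 2 → C)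
    (hd : algebraMap (Localization.Away h) C (gen h 0) * d 1 +
      d 0 * algebraMap (Localization.Away h) C (gen h 1) = 0) :
    ∃ Φ : Localization.Away h →ₐ[V] DualNumber C,
      (∀ b, fst (Φ b) = algebraMap _ C b) ∧ ∀ l, snd (Φ (gen h l)) = d l := by
  let c : Fin 2 → DualNumber C := fun l => inl (algebraMap _ C (gen h l)) + inr (d l)
  have hc : c 0 * c 1 = algebraMap V (DualNumber C) ϖ := by
    refine TrivSqZeroExt.ext ?_ ?_
    · simp only [c, fst_mul, fst_add, fst_inl, fst_inr, add_zero]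
      rw [← map_mul, gen_mul_gen (by decide), ← IsScalarTower.algebraMap_apply]
      simp [TrivSqZeroExt.algebraMap_eq_inl']
    · simp only [c, DualNumber.snd_mul, fst_add, fst_inl, fst_inr, add_zero, snd_add, snd_inl,
        snd_inr, zero_add, hd]
      simp [TrivSqZeroExt.algebraMap_eq_inl']
  have hfst : ∀ a, fst (lift c hc a) = algebraMap _ C (algebraMap (N ϖ) (Localization.Away h) a) := by
    refine AlgHom.congr_fun (φ₁ := (fstHom V C C).comp (lift c hc))
      (φ₂ := ((IsScalarTower.toAlgHom V (Localization.Away h) C).comp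
        (IsScalarTower.toAlgHom V (N ϖ) (Localization.Away h)))) (algHom_ext fun l => ?_)
    simp [c]
  have hu : ∀ s : Submonoid.powers h, IsUnit (lift c hc s) := fun s => by
    rw [isUnit_iff_isUnit_fst, hfst]
    exact (IsLocalization.map_units (Localization.Away h) s).map _
  refine ⟨IsLocalization.liftAlgHom hu, fun b => ?_, fun l => ?_⟩
  · induction b using induction_node with
    | hV v => simp [TrivSqZeroExt.algebraMap_eq_inl', ← IsScalarTower.algebraMap_apply]
    | hX l => simp [c]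
    | hadd a b ha hb => rw [map_add, fst_add, ha, hb, map_add]
    | hmul a b ha hb => rw [map_mul, fst_mul, ha, hb, map_mul]
    | hdiv b s hs h1 h2 =>
      rw [map_mul, fst_mul, h1, map_mul] at h2
      exact (hs.map (algebraMap _ C)).mul_left_injective h2
  · simp [c]

theorem comp_lift_eq {C T : Type u} [CommRing C] [Algebra V C] [CommRing T] [Algebra V T] (c : Fin 2 → C)
    (hc : c 0 * c 1 = algebraMap V C ϖ) (ψ : C →ₐ[V] T) (q : N ϖ →ₐ[V] T)
    (h : ∀ l, ψ (c l) = q (co l)) (g : N ϖ) : ψ (lift c hc g) = q g :=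
  AlgHom.congr_fun (algHom_ext (f := ψ.comp (lift c hc)) (g := q) fun l => by
    rw [AlgHom.comp_apply, lift_co, h l]) g

theorem exists_polyLift [IsDomain V] [IsDiscreteValuationRing V] (hϖ : Irreducible ϖ) {A T : Type u}
    [CommRing A] [Algebra V A] [CommRing T] [Algebra V T] (q : A →ₐ[V] T)
    (hϖT : q (algebraMap V A ϖ) = 0) (y : A) :
    ∃ ψ : Polynomial (ResidueField V) →ₐ[V] T, ψ Polynomial.X = q y := by
  have hm : ∀ v ∈ maximalIdeal V, algebraMap V T v = 0 := fun v hv => by
    rw [hϖ.maximalIdeal_eq, Ideal.mem_span_singleton'] at hv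
    obtain ⟨w, rfl⟩ := hv
    rw [map_mul, ← q.commutes ϖ, hϖT, mul_zero]
  refine ⟨{ Polynomial.eval₂RingHom (Ideal.Quotient.lift _ (algebraMap V T) hm) (q y) with
    commutes' := fun v => ?_ }, Polynomial.eval₂_X _ _⟩
  show Polynomial.eval₂ _ _ (algebraMap V (Polynomial (ResidueField V)) v) = algebraMap V T v
  rw [IsScalarTower.algebraMap_apply V (ResidueField V) (Polynomial (ResidueField V)),
    Polynomial.algebraMap_eq]
  exact Polynomial.eval₂_C _ _

theorem mem_span_of_lift_eq_zero [IsDomain V] [IsDiscreteValuationRing V] (hϖ : Irreducible ϖ)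
    {i j : Fin 2} (hij : i ≠ j) (c : Fin 2 → Polynomial (ResidueField V))
    (hc : c 0 * c 1 = algebraMap V _ ϖ) (hci : c i = 0) (hcj : c j = Polynomial.X)
    {A : Type u} [CommRing A] [Algebra V A] (p : N ϖ →ₐ[V] A) (g : N ϖ) (hg : lift c hc g = 0) :
    p g ∈ Ideal.span {p (co i)} := by
  let J : Ideal A := Ideal.span {p (co i)}
  let q : A →ₐ[V] A ⧸ J := Ideal.Quotient.mkₐ V J
  have hqi : q (p (co i)) = 0 := Ideal.Quotient.eq_zero_iff_mem.mpr (Ideal.subset_span rfl)
  obtain ⟨ψ, hψX⟩ := exists_polyLift hϖ (q.comp p)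
    (by rw [← co_mul_co' hij, map_mul, AlgHom.comp_apply, hqi, zero_mul]) (co j)
  have hψ := comp_lift_eq c hc ψ (q.comp p) fun l => by
    rcases eq_or_ne l i with rfl | hl
    · rw [hci, map_zero]
      exact hqi.symm
    · have : l = j := by omega
      subst this
      rw [hcj]
      exact hψX
  have h0 := hψ g
  rw [hg, map_zero] at h0
  exact Ideal.Quotient.eq_zero_iff_mem.mp h0.symm

section prime

variable [IsDomain V] [IsDiscreteValuationRing V] (hϖ : Irreducible ϖ)
  (hh : h ∉ Ideal.span {co 0, co 1})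

include hϖ

theorem exists_chi {i j : Fin 2} (hij : i ≠ j) :
    ∃ χ : N ϖ →ₐ[V] Polynomial (ResidueField V), χ (co i) = 0 ∧ χ (co j) = Polynomial.X ∧
      (∀ g, χ g = 0 → g ∈ Ideal.span {co i}) ∧ Function.Surjective χ := by
  have hres : residue V ϖ = 0 :=
    (residue_eq_zero_iff ϖ).mpr ((mem_maximalIdeal _).mpr hϖ.not_isUnit)
  let c : Fin 2 → Polynomial (ResidueField V) := fun l => if l = i then 0 else Polynomial.X
  have hc : c 0 * c 1 = algebraMap V (Polynomial (ResidueField V)) ϖ := by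
    rw [IsScalarTower.algebraMap_apply V (ResidueField V) (Polynomial (ResidueField V)),
      ResidueField.algebraMap_eq, hres, map_zero]
    fin_cases i <;> simp [c]
  refine ⟨lift c hc, by simp [c], by simp [c, hij.symm], fun g hg => ?_, fun p => ?_⟩
  · exact mem_span_of_lift_eq_zero hϖ hij c hc (by simp [c]) (by simp [c, hij.symm]) (AlgHom.id V _) g hg
  · induction p using Polynomial.induction_on with
    | C a =>
      obtain ⟨v, rfl⟩ := residue_surjective a
      exact ⟨algebraMap V _ v, by simp [Polynomial.C_eq_algebraMap]⟩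
    | add p q hp hq =>
      obtain ⟨a, rfl⟩ := hp
      obtain ⟨b, rfl⟩ := hq
      exact ⟨a + b, map_add _ _ _⟩
    | monomial n a hp =>
      obtain ⟨g, hg⟩ := hp
      refine ⟨g * co j, ?_⟩
      rw [map_mul, hg, lift_co, pow_succ, ← mul_assoc]
      simp [c, hij.symm]

theorem exists_evalZero : ∃ ε : N ϖ →ₐ[V] ResidueField V, (∀ l, ε (co l) = 0) ∧
    RingHom.ker ε = Ideal.span {co 0, co 1} := by
  obtain ⟨χ, hχ0, hχ1, hker, hsurj⟩ := exists_chi hϖ (i := 0) (j := 1) (by decide)
  refine ⟨((Polynomial.aeval (0 : ResidueField V)).restrictScalars V).comp χ, fun l => ?_,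
    le_antisymm (fun g hg => ?_) ?_⟩
  · fin_cases l <;> simp [hχ0, hχ1]
  · have h0 : (χ g).eval 0 = 0 := by simpa using hg
    obtain ⟨r, hr⟩ := Polynomial.dvd_iff_isRoot.mpr h0
    obtain ⟨r', rfl⟩ := hsurj r
    have : g - co 1 * r' ∈ Ideal.span {(co 0 : N ϖ)} := hker _ (by
      rw [map_sub, map_mul, hχ1, hr, Polynomial.C_0, sub_zero, sub_self])
    rw [show g = (g - co 1 * r') + co 1 * r' by ring]
    exact add_mem (Ideal.span_mono (Set.singleton_subset_iff.mpr (Set.mem_insert _ _)) this)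
      (Ideal.mul_mem_right _ _ (Ideal.subset_span (Set.mem_insert_of_mem _ rfl)))
  · rw [Ideal.span_le]
    rintro g (rfl | rfl) <;> simp [hχ0, hχ1]

include hh

theorem isPrime_span_gen {i j : Fin 2} (hij : i ≠ j) :
    (Ideal.span {gen h i}).IsPrime ∧ gen h j ∉ Ideal.span {gen h i} := by
  obtain ⟨χ, hi, hj, hker, -⟩ := exists_chi hϖ hij
  have he : Ideal.span ({co i} : Set (N ϖ)) = RingHom.ker χ :=
    le_antisymm (by rw [Ideal.span_le, Set.singleton_subset_iff]; exact hi) fun g hg => hker g hg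
  have hp : (Ideal.span ({co i} : Set (N ϖ))).IsPrime := he ▸ RingHom.ker_isPrime _
  have hdisj : Disjoint (Submonoid.powers h : Set (N ϖ)) ↑(Ideal.span ({co i} : Set (N ϖ))) := by
    refine Set.disjoint_left.mpr ?_
    rintro _ ⟨n, rfl⟩ hn
    refine hh (Ideal.span_mono (Set.singleton_subset_iff.mpr ?_) (hp.mem_of_pow_mem n hn))
    fin_cases i <;> simp
  have hmap : Ideal.span {gen h i} =
      (Ideal.span ({co i} : Set (N ϖ))).map (algebraMap (N ϖ) (Localization.Away h)) := by
    rw [Ideal.map_span, Set.image_singleton]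
  refine ⟨hmap ▸ IsLocalization.isPrime_of_isPrime_disjoint (Submonoid.powers h) _ _ hp hdisj,
    fun hmem => ?_⟩
  rw [hmap] at hmem
  have h1 : co j ∈ ((Ideal.span ({co i} : Set (N ϖ))).map (algebraMap (N ϖ) (Localization.Away h))).under (N ϖ) :=
    hmem
  rw [IsLocalization.under_map_of_isPrime_disjoint (Submonoid.powers h) _ hp hdisj, he,
    RingHom.mem_ker, hj] at h1
  exact Polynomial.X_ne_zero h1

theorem isPrime_pt : (Ideal.span {gen h 0, gen h 1}).IsPrime ∧
    Ideal.span {gen h 0, gen h 1} =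
      (Ideal.span {co 0, co 1}).map (algebraMap (N ϖ) (Localization.Away h)) ∧
    ∀ g, algebraMap (N ϖ) (Localization.Away h) g ∈ Ideal.span {gen h 0, gen h 1} →
      g ∈ Ideal.span {co 0, co 1} := by
  obtain ⟨ε, -, he⟩ := exists_evalZero hϖ
  have hp : (Ideal.span {(co 0 : N ϖ), co 1}).IsPrime := he ▸ RingHom.ker_isPrime _
  have hdisj : Disjoint (Submonoid.powers h : Set (N ϖ)) ↑(Ideal.span {(co 0 : N ϖ), co 1}) := by
    refine Set.disjoint_left.mpr ?_
    rintro _ ⟨n, rfl⟩ hn
    exact hh (hp.mem_of_pow_mem n hn)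
  have hmap : Ideal.span {gen h 0, gen h 1} =
      (Ideal.span {(co 0 : N ϖ), co 1}).map (algebraMap (N ϖ) (Localization.Away h)) := by
    rw [Ideal.map_span, Set.image_pair]
  refine ⟨hmap ▸ IsLocalization.isPrime_of_isPrime_disjoint (Submonoid.powers h) _ _ hp hdisj,
    hmap, fun g hg => ?_⟩
  rw [hmap] at hg
  rw [← IsLocalization.under_map_of_isPrime_disjoint (Submonoid.powers h) (Localization.Away h) hp hdisj]
  exact hg

/-- No prime lies strictly between a branch and the point. -/
theorem eq_of_between {i j : Fin 2} (hij : i ≠ j) (q : Ideal (Localization.Away h)) [q.IsPrime]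
    (hiq : gen h i ∈ q) (hqP : q ≤ Ideal.span {gen h 0, gen h 1}) :
    q = Ideal.span {gen h i} ∨ gen h j ∈ q := by
  obtain ⟨χ, hi, hj, hker, hsurj⟩ := exists_chi hϖ hij
  obtain ⟨hP, hmapP, hunderP⟩ := isPrime_pt hϖ hh
  by_cases hle : q ≤ Ideal.span {gen h i}
  · exact Or.inl (le_antisymm hle (by rwa [Ideal.span_le, Set.singleton_subset_iff]))
  right
  obtain ⟨b, hb, hbn⟩ := SetLike.not_le_iff_exists.mp hle
  obtain ⟨⟨a, s⟩, hs⟩ := IsLocalization.surj (Submonoid.powers h) b
  have ha : algebraMap (N ϖ) _ a ∈ q := hs ▸ Ideal.mul_mem_right _ _ hb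
  have ha0 : χ a ≠ 0 := fun h0 => hbn (by
    have : algebraMap (N ϖ) _ a ∈ Ideal.span {gen h i} := by
      have := Ideal.mem_map_of_mem (algebraMap (N ϖ) (Localization.Away h)) (hker a h0)
      rwa [Ideal.map_span, Set.image_singleton] at this
    rw [← hs] at this
    exact (Ideal.mul_unit_mem_iff_mem _ (IsLocalization.map_units (Localization.Away h) s)).mp this)
  obtain ⟨r, hr, hr0⟩ := Polynomial.exists_eq_pow_rootMultiplicity_mul_and_not_dvd (χ a) ha0 0
  obtain ⟨r', rfl⟩ := hsurj r
  set n := Polynomial.rootMultiplicity 0 (χ a)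
  rw [Polynomial.C_0, sub_zero] at hr hr0
  have hmem : a - co j ^ n * r' ∈ Ideal.span ({co i} : Set (N ϖ)) := hker _ (by
    rw [map_sub, map_mul, map_pow, hj, ← hr, sub_self])
  have hsub : algebraMap (N ϖ) _ (a - co j ^ n * r') ∈ q := by
    obtain ⟨w, hw⟩ := Ideal.mem_span_singleton'.mp hmem
    rw [← hw, map_mul]
    exact Ideal.mul_mem_left _ _ hiq
  have hprod : algebraMap (N ϖ) (Localization.Away h) (co j ^ n * r') ∈ q := by
    have := sub_mem ha hsub
    rwa [← map_sub, sub_sub_cancel] at this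
  rw [map_mul, map_pow] at hprod
  refine (Ideal.IsPrime.mem_or_mem inferInstance hprod).elim (Ideal.IsPrime.mem_of_pow_mem inferInstance n)
    fun hr' => absurd ?_ hr0
  have h1 := hunderP r' (hqP hr')
  obtain ⟨u, w, huw⟩ := Ideal.mem_span_pair.mp h1
  rw [← huw, map_add, map_mul, map_mul]
  fin_cases i <;> fin_cases j <;> simp_all

end prime

end Groth.Agent.H4Node
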