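import Groth.Agent.H4Node.Main

/-!
# Vanishing of differentials and failure of quasi-finiteness
-/

set_option linter.style.haveILetI false

namespace Groth.Agent.H4Node

universe u v

open MvPolynomial TrivSqZeroExt IsLocalRing

variable {V : Type u} [CommRing V] {ϖ : V} {h : N ϖ}

theorem delta_eq_zero {C : Type v} [CommRing C] [Algebra V C] [Algebra (Localization.Away h) C]
    [IsScalarTower V (Localization.Away h) C] [IsDomain C]
    (Θ : Localization.Away h →ₐ[V] DualNumber (Localization.Away h))
    (h1 : ∀ b, fst (Θ b) = b) (h0 : snd (Θ (gen h 0)) = gen h 0) (h0' : snd (Θ (gen h 1)) = -gen h 1)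
    {i j : Fin 2} (hij : i ≠ j) (hi : algebraMap (Localization.Away h) C (gen h i) = 0)
    (hj : algebraMap (Localization.Away h) C (gen h j) ≠ 0)
    (Δ : Localization.Away h →ₐ[V] DualNumber C) (d1 : ∀ b, fst (Δ b) = algebraMap _ C b)
    (di : snd (Δ (gen h i)) = 0) (dj : snd (Δ (gen h j)) = 1)
    (f : Localization.Away h) (hf : snd (Θ f) ∈ Ideal.span {gen h i}) : snd (Δ f) = 0 := by
  let y : C := algebraMap (Localization.Away h) C (gen h j)
  let σ : C := if j = 0 then 1 else -1
  have key : ∀ b, algebraMap (Localization.Away h) C (snd (Θ b)) = σ * (y * snd (Δ b)) := by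
    intro b
    induction b using induction_node with
    | hV v => simp [TrivSqZeroExt.algebraMap_eq_inl']
    | hX l =>
      fin_cases i <;> fin_cases j <;> fin_cases l <;> first | exact absurd rfl hij | simp_all [σ, y]
    | hadd a b ha hb => rw [map_add, snd_add, map_add, ha, hb, map_add, snd_add]; ring
    | hmul a b ha hb =>
      rw [map_mul, DualNumber.snd_mul, h1, h1, map_add, map_mul, map_mul, ha, hb, map_mul,
        DualNumber.snd_mul, d1, d1]
      ring
    | hdiv b s hs hPs hPbs =>
      rw [map_mul, DualNumber.snd_mul, h1, h1, map_add, map_mul, map_mul, hPs, map_mul,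
        DualNumber.snd_mul, d1, d1] at hPbs
      refine (hs.map (algebraMap (Localization.Away h) C)).mul_left_injective ?_
      linear_combination hPbs
  obtain ⟨r, hr⟩ := Ideal.mem_span_singleton'.mp hf
  have h2 := key f
  rw [← hr, map_mul, hi, mul_zero] at h2
  have hσ : σ ≠ 0 := by
    show (if j = 0 then (1 : C) else -1) ≠ 0
    split_ifs <;> simp
  exact ((mul_eq_zero.mp ((mul_eq_zero.mp h2.symm).resolve_left hσ))).resolve_left hj

variable [IsDomain V] [IsDiscreteValuationRing V] [CharZero V] (hϖ : Irreducible ϖ)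
  (hh : h ∉ Ideal.span {co 0, co 1})

include hϖ hh

omit [CharZero V] in
theorem D_eq_zero {B' : Type u} [CommRing B'] [Algebra V B'] [Algebra (Localization.Away h) B']
    [IsScalarTower V (Localization.Away h) B'] [IsDomain B']
    (Θ : Localization.Away h →ₐ[V] DualNumber (Localization.Away h))
    (h1 : ∀ b, fst (Θ b) = b) (h0 : snd (Θ (gen h 0)) = gen h 0) (h0' : snd (Θ (gen h 1)) = -gen h 1)
    {i j : Fin 2} (hij : i ≠ j) (hi : algebraMap (Localization.Away h) B' (gen h i) = 0)
    (hj : algebraMap (Localization.Away h) B' (gen h j) ≠ 0)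
    (f : Localization.Away h) (hf : snd (Θ f) ∈ Ideal.span {gen h i}) :
    KaehlerDifferential.D V B' (algebraMap (Localization.Away h) B' f) = 0 := by
  obtain ⟨Δ, d1, di, dj⟩ := exists_delta (h := h) hij B' hi
  let a := algebraMap (Localization.Away h) B'
  have key : ∀ b, KaehlerDifferential.D V B' (a b) = snd (Δ b) • KaehlerDifferential.D V B' (a (gen h j)) := by
    intro b
    induction b using induction_node with
    | hV v => simp [a, TrivSqZeroExt.algebraMap_eq_inl', ← IsScalarTower.algebraMap_apply]
    | hX l =>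
      rcases eq_or_ne l i with rfl | hl
      · rw [di, zero_smul, show a (gen h l) = 0 from hi, map_zero]
      · have : l = j := by omega
        subst this
        rw [dj, one_smul]
    | hadd x y hx hy => rw [map_add, map_add, hx, hy, map_add, snd_add, add_smul]
    | hmul x y hx hy =>
      rw [map_mul, Derivation.leibniz, hx, hy, map_mul, DualNumber.snd_mul, d1, d1, add_smul,
        smul_smul, smul_smul, mul_comm (snd (Δ x))]
    | hdiv x s hs hPs hPxs =>
      rw [map_mul, Derivation.leibniz, hPs, map_mul, DualNumber.snd_mul, d1, d1, add_smul,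
        smul_smul, add_right_inj, mul_comm (snd (Δ x)), ← smul_smul] at hPxs
      exact sub_self_smul (hs.map a) hPxs
  rw [show algebraMap (Localization.Away h) B' f = a f from rfl, key,
    delta_eq_zero Θ h1 h0 h0' hij hi hj Δ d1 di dj f hf, zero_smul]

theorem not_quasiFinite [CharZero (ResidueField V)] (Θ : Localization.Away h →ₐ[V] DualNumber (Localization.Away h))
    (h1 : ∀ b, fst (Θ b) = b) (h0 : snd (Θ (gen h 0)) = gen h 0) (h0' : snd (Θ (gen h 1)) = -gen h 1)
    {i j : Fin 2} (hij : i ≠ j) (f : Localization.Away h) (hf : snd (Θ f) ∈ Ideal.span {gen h i}) :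
    ¬ (Polynomial.aeval f : Polynomial V →ₐ[V] Localization.Away h).toRingHom.QuasiFinite := by
  intro hq
  obtain ⟨hP, hjP⟩ := isPrime_span_gen hϖ hh hij
  let P : Ideal (Localization.Away h) := Ideal.span {gen h i}
  haveI : P.IsPrime := hP
  let F := P.ResidueField
  have hkerF : ∀ b, algebraMap (Localization.Away h) F b = 0 ↔ b ∈ P := fun b =>
    Ideal.algebraMap_residueField_eq_zero
  have hi : algebraMap (Localization.Away h) F (gen h i) = 0 := (hkerF _).mpr (Ideal.subset_span rfl)
  have hj : algebraMap (Localization.Away h) F (gen h j) ≠ 0 := fun e => hjP ((hkerF _).mp e)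
  obtain ⟨Δ, d1, di, dj⟩ := exists_delta (h := h) hij F hi
  have hfz := delta_eq_zero Θ h1 h0 h0' hij hi hj Δ d1 di dj f hf
  -- extend `Δ` to the residue field
  have hΔP : ∀ b ∈ P, Δ b = 0 := by
    intro b hb
    obtain ⟨r, rfl⟩ := Ideal.mem_span_singleton'.mp hb
    have : Δ (gen h i) = 0 := TrivSqZeroExt.ext (by rw [d1, hi, fst_zero]) (by rw [di, snd_zero])
    rw [map_mul, this, mul_zero]
  let Δ₁ : Localization.Away h ⧸ P →+* DualNumber F := Ideal.Quotient.lift P Δ.toRingHom hΔP
  have hfst : ∀ x, fst (Δ₁ x) = algebraMap _ F x := fun x => by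
    obtain ⟨b, rfl⟩ := Ideal.Quotient.mk_surjective x
    exact (d1 b).trans (IsScalarTower.algebraMap_apply (Localization.Away h) (Localization.Away h ⧸ P) F b)
  let E : F →+* DualNumber F := IsLocalization.lift (M := nonZeroDivisors (Localization.Away h ⧸ P))
    (g := Δ₁) fun s => by
      rw [isUnit_iff_isUnit_fst, hfst]
      exact IsLocalization.map_units F s
  have hE : ∀ b, E (algebraMap (Localization.Away h) F b) = Δ b := fun b => by
    rw [IsScalarTower.algebraMap_apply (Localization.Away h) (Localization.Away h ⧸ P) F b]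
    exact IsLocalization.lift_eq _ _
  letI : Algebra (Polynomial V) (Localization.Away h) :=
    (Polynomial.aeval f : Polynomial V →ₐ[V] Localization.Away h).toRingHom.toAlgebra
  haveI : Algebra.QuasiFinite (Polynomial V) (Localization.Away h) := hq
  let p : Ideal (Polynomial V) := P.comap (algebraMap (Polynomial V) (Localization.Away h))
  let K₀ := p.ResidueField
  letI : Algebra K₀ F :=
    (Ideal.ResidueField.map p P (algebraMap (Polynomial V) (Localization.Away h)) rfl).toAlgebra
  haveI : IsScalarTower (Polynomial V) K₀ F := IsScalarTower.of_algebraMap_eq fun x => by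
    rw [IsScalarTower.algebraMap_apply (Polynomial V) (Localization.Away h) F]
    exact (Ideal.ResidueField.map_algebraMap _ _ _ _ x).symm
  haveI : Algebra.QuasiFinite K₀ F := Algebra.QuasiFinite.of_restrictScalars (Polynomial V) K₀ F
  haveI : Module.Finite K₀ F := Module.Finite.of_quasiFinite
  have hk : ∀ v ∈ maximalIdeal V, algebraMap V F v = 0 := fun v hv => by
    rw [hϖ.maximalIdeal_eq, Ideal.mem_span_singleton'] at hv
    obtain ⟨w, rfl⟩ := hv
    rw [IsScalarTower.algebraMap_apply V (Localization.Away h) F, map_mul, ← gen_mul_gen hij,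
      map_mul, map_mul, hi, zero_mul, mul_zero]
  let φ : ResidueField V →+* F := Ideal.Quotient.lift _ (algebraMap V F) hk
  haveI : CharZero F := charZero_of_injective_ringHom φ.injective
  haveI : CharZero K₀ := (algebraMap K₀ F).charZero
  haveI : Algebra.IsSeparable K₀ F := inferInstance
  haveI : Algebra.FormallyUnramified K₀ F := Algebra.FormallyUnramified.of_isSeparable K₀ F
  letI : Algebra K₀ (DualNumber F) := ((inlHom F F).comp (algebraMap K₀ F)).toAlgebra
  have hagree : E.comp (algebraMap K₀ F) = (inlHom F F).comp (algebraMap K₀ F) := by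
    refine IsLocalization.ringHom_ext (nonZeroDivisors (Polynomial V ⧸ p))
      (Ideal.Quotient.ringHom_ext (RingHom.ext fun x => ?_))
    show E (algebraMap K₀ F (algebraMap (Polynomial V ⧸ p) K₀ (algebraMap (Polynomial V) _ x))) =
      inlHom F F (algebraMap K₀ F (algebraMap (Polynomial V ⧸ p) K₀ (algebraMap (Polynomial V) _ x)))
    rw [← IsScalarTower.algebraMap_apply (Polynomial V) (Polynomial V ⧸ p) K₀,
      ← IsScalarTower.algebraMap_apply (Polynomial V) K₀ F,
      IsScalarTower.algebraMap_apply (Polynomial V) (Localization.Away h) F, hE]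
    show Δ (Polynomial.aeval f x) = inl (algebraMap _ F (Polynomial.aeval f x))
    refine TrivSqZeroExt.ext (by rw [d1, fst_inl]) ?_
    rw [snd_inl, ← Polynomial.aeval_algHom_apply]
    induction x using Polynomial.induction_on with
    | C v => simp [TrivSqZeroExt.algebraMap_eq_inl']
    | add a b ha hb => rw [map_add, snd_add, ha, hb, add_zero]
    | monomial n v ih =>
      rw [pow_succ, ← mul_assoc, map_mul, Polynomial.aeval_X, DualNumber.snd_mul, ih, hfz, mul_zero,
        zero_mul, add_zero]
  let A₀ : F →ₐ[K₀] DualNumber F := { inlHom F F with commutes' := fun _ => rfl }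
  let A₁ : F →ₐ[K₀] DualNumber F := { E with commutes' := fun c => RingHom.congr_fun hagree c }
  have hA : A₁ = A₀ := by
    refine Algebra.FormallyUnramified.ext' (fstHom F F F).toRingHom ?_ _ _ fun x => ?_
    · refine ⟨2, ?_⟩
      rw [pow_two, Submodule.zero_eq_bot, ← le_bot_iff, Ideal.mul_le]
      intro a ha b hb
      rw [RingHom.mem_ker] at ha hb
      have ha' : fst a = 0 := ha
      have hb' : fst b = 0 := hb
      rw [Ideal.mem_bot]
      refine TrivSqZeroExt.ext ?_ ?_
      · rw [fst_mul, ha', zero_mul, fst_zero]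
      · rw [DualNumber.snd_mul, ha', hb', zero_mul, mul_zero, add_zero, snd_zero]
    · refine RingHom.congr_fun (f := (fstHom F F F).toRingHom.comp E)
        (g := (fstHom F F F).toRingHom.comp (inlHom F F))
        (IsLocalization.ringHom_ext (nonZeroDivisors (Localization.Away h ⧸ P))
          (RingHom.ext fun b => ?_)) x
      show fst (E (algebraMap (Localization.Away h ⧸ P) F b)) =
        fst (inlHom F F (algebraMap (Localization.Away h ⧸ P) F b))
      rw [IsLocalization.lift_eq, hfst]
      rfl
  have h9 : E (algebraMap _ F (gen h j)) = inl (algebraMap (Localization.Away h) F (gen h j)) :=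
    AlgHom.congr_fun hA _
  rw [hE] at h9
  have := congrArg snd h9
  rw [dj, snd_inl] at this
  exact one_ne_zero this

end Groth.Agent.H4Node
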