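import Groth.Agent.H4Node.Basic

/-!
# Differentials of a generically étale function on the semistable node
-/

set_option linter.style.haveILetI false

namespace Groth.Agent.H4Node

universe u v

open MvPolynomial TrivSqZeroExt IsLocalRing

variable {V : Type u} [CommRing V] {ϖ : V} {h : N ϖ}

/-- The logarithmic derivation, as a first order map. -/
theorem exists_theta : ∃ Θ : Localization.Away h →ₐ[V] DualNumber (Localization.Away h),
    (∀ b, fst (Θ b) = b) ∧ snd (Θ (gen h 0)) = gen h 0 ∧ snd (Θ (gen h 1)) = -gen h 1 := by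
  let d : Fin 2 → Localization.Away h := ![gen h 0, -gen h 1]
  obtain ⟨Θ, h1, h2⟩ := exists_dual (h := h) (C := Localization.Away h) d (by
    show gen h 0 * (-gen h 1) + gen h 0 * gen h 1 = 0
    ring)
  exact ⟨Θ, h1, h2 0, h2 1⟩

/-- The derivation along a branch, as a first order map. -/
theorem exists_delta {i j : Fin 2} (hij : i ≠ j) (C : Type v) [CommRing C] [Algebra V C]
    [Algebra (Localization.Away h) C] [IsScalarTower V (Localization.Away h) C]
    (hi : algebraMap (Localization.Away h) C (gen h i) = 0) :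
    ∃ Δ : Localization.Away h →ₐ[V] DualNumber C,
      (∀ b, fst (Δ b) = algebraMap _ C b) ∧ snd (Δ (gen h i)) = 0 ∧ snd (Δ (gen h j)) = 1 := by
  obtain ⟨Δ, h1, h2⟩ := exists_dual (h := h) (C := C) (fun l => if l = i then 0 else 1) (by
    fin_cases i <;> simp_all)
  exact ⟨Δ, h1, by simp [h2], by simp [h2, hij.symm]⟩

theorem sub_self_smul {R M : Type*} [CommRing R] [AddCommGroup M] [Module R M] {u : R} (hu : IsUnit u)
    {x y : M} (hxy : u • x = u • y) : x = y := by
  obtain ⟨v, rfl⟩ := hu
  exact (smul_left_cancel_iff v).mp hxy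

/-- A first order map killing an étale coordinate is trivial. -/
theorem snd_eq_zero_of_etale {B C D : Type u} [CommRing B] [Algebra V B] [CommRing C] [Algebra B C]
    (M : Submonoid B) [IsLocalization M C] [CommRing D] (π : C →+* D)
    (Θ : B →ₐ[V] DualNumber B) (h1 : ∀ b, fst (Θ b) = b) (f : B)
    (hf : ((algebraMap B C).comp (Polynomial.aeval f : Polynomial V →ₐ[V] B).toRingHom).Etale)
    (hT : π (algebraMap B C (snd (Θ f))) = 0) (b : B) : π (algebraMap B C (snd (Θ b))) = 0 := by
  letI : Algebra (Polynomial V) C :=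
    ((algebraMap B C).comp (Polynomial.aeval f : Polynomial V →ₐ[V] B).toRingHom).toAlgebra
  haveI : Algebra.Etale (Polynomial V) C := hf
  let r : B →+* D := π.comp (algebraMap B C)
  let g₀ : B →+* DualNumber D := (inlHom D D).comp r
  let g₁ : B →+* DualNumber D :=
    { toFun := fun b => inl (r b) + inr (r (snd (Θ b)))
      map_one' := by
        rw [map_one, map_one, snd_one, map_zero, inr_zero, add_zero, inl_one]
      map_mul' := fun a b => by
        refine TrivSqZeroExt.ext ?_ ?_
        · simp [fst_mul]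
        · simp [DualNumber.snd_mul, h1, map_mul, map_add]
      map_zero' := by simp
      map_add' := fun a b => by
        refine TrivSqZeroExt.ext ?_ ?_ <;> simp }
  have hu : ∀ g : B →+* DualNumber D, (∀ b, fst (g b) = r b) → ∀ s : M, IsUnit (g s) := fun g hg s => by
    rw [isUnit_iff_isUnit_fst, hg]
    exact (IsLocalization.map_units C s).map π
  have hg₀ : ∀ b, fst (g₀ b) = r b := fun b => fst_inl _ _
  have hg₁ : ∀ b, fst (g₁ b) = r b := fun b => by simp [g₁]
  let G₀ : C →+* DualNumber D := IsLocalization.lift (hu g₀ hg₀)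
  let G₁ : C →+* DualNumber D := IsLocalization.lift (hu g₁ hg₁)
  have hTf : r (snd (Θ f)) = 0 := hT
  letI : Algebra (Polynomial V) (DualNumber D) :=
    ((g₀.comp (Polynomial.aeval f : Polynomial V →ₐ[V] B).toRingHom)).toAlgebra
  have hagree : ∀ p : Polynomial V, g₁ (Polynomial.aeval f p) = g₀ (Polynomial.aeval f p) := by
    intro p
    refine RingHom.congr_fun (f := g₁.comp (Polynomial.aeval f : Polynomial V →ₐ[V] B).toRingHom)
      (g := g₀.comp (Polynomial.aeval f : Polynomial V →ₐ[V] B).toRingHom) ?_ p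
    refine Polynomial.ringHom_ext (fun v => ?_) ?_
    · simp [g₀, g₁, TrivSqZeroExt.algebraMap_eq_inl']
    · simp [g₀, g₁, hTf]
  let A₀ : C →ₐ[Polynomial V] DualNumber D :=
    { G₀ with commutes' := fun p => IsLocalization.lift_eq _ _ }
  let A₁ : C →ₐ[Polynomial V] DualNumber D :=
    { G₁ with commutes' := fun p => (IsLocalization.lift_eq _ _).trans (hagree p) }
  have hA : A₁ = A₀ := by
    refine Algebra.FormallyUnramified.ext' (fstHom D D D).toRingHom ?_ _ _ fun x => ?_
    · refine ⟨2, ?_⟩
      rw [pow_two, Submodule.zero_eq_bot, ← le_bot_iff, Ideal.mul_le]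
      intro a ha b hb
      rw [RingHom.mem_ker] at ha hb
      have ha' : fst a = 0 := ha
      have hb' : fst b = 0 := hb
      rw [Ideal.mem_bot]
      refine TrivSqZeroExt.ext ?_ ?_
      · rw [fst_mul, ha', zero_mul, fst_zero]
      · rw [DualNumber.snd_mul, ha', hb', zero_mul, mul_zero, add_zero, snd_zero]
    · refine RingHom.congr_fun (f := (fstHom D D D).toRingHom.comp G₁)
        (g := (fstHom D D D).toRingHom.comp G₀)
        (IsLocalization.ringHom_ext M (RingHom.ext fun b => ?_)) x
      show fst (G₁ (algebraMap B C b)) = fst (G₀ (algebraMap B C b))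
      rw [IsLocalization.lift_eq, IsLocalization.lift_eq, hg₀, hg₁]
  have := AlgHom.congr_fun hA (algebraMap B C b)
  replace this : G₁ (algebraMap B C b) = G₀ (algebraMap B C b) := this
  rw [IsLocalization.lift_eq, IsLocalization.lift_eq] at this
  simpa [g₀, g₁, r] using congrArg snd this

variable [IsDomain V] [IsDiscreteValuationRing V] [CharZero V] (hϖ : Irreducible ϖ)
  (hh : h ∉ Ideal.span {co 0, co 1})

include hϖ hh

omit [CharZero V] in
theorem theta_mem_pt (Θ : Localization.Away h →ₐ[V] DualNumber (Localization.Away h))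
    (h1 : ∀ b, fst (Θ b) = b) (h0 : snd (Θ (gen h 0)) = gen h 0)
    (h0' : snd (Θ (gen h 1)) = -gen h 1) (b : Localization.Away h) :
    snd (Θ b) ∈ Ideal.span {gen h 0, gen h 1} := by
  have hP := (isPrime_pt hϖ hh).1
  induction b using induction_node with
  | hV v => simp [TrivSqZeroExt.algebraMap_eq_inl']
  | hX l =>
    fin_cases l
    · rw [show (⟨0, by decide⟩ : Fin 2) = 0 from rfl, h0]
      exact Ideal.subset_span (Set.mem_insert _ _)
    · rw [show (⟨1, by decide⟩ : Fin 2) = 1 from rfl, h0']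
      exact neg_mem (Ideal.subset_span (Set.mem_insert_of_mem _ rfl))
  | hadd a b ha hb => rw [map_add, snd_add]; exact add_mem ha hb
  | hmul a b ha hb =>
    rw [map_mul, DualNumber.snd_mul]
    exact add_mem (Ideal.mul_mem_left _ _ hb) (Ideal.mul_mem_right _ _ ha)
  | hdiv b s hs hPs hPbs =>
    rw [map_mul, DualNumber.snd_mul, h1, h1] at hPbs
    have := sub_mem hPbs (Ideal.mul_mem_left _ b hPs)
    rw [add_sub_cancel_left] at this
    exact (Ideal.mul_unit_mem_iff_mem _ hs).mp this

/-- The first order statement: the differential vanishes on one of the two branches. -/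
theorem exists_branch (f : Localization.Away h)
    (hf : ((algebraMap (Localization.Away h)
        (Localization.Away (algebraMap V (Localization.Away h) ϖ))).comp
          (Polynomial.aeval f : Polynomial V →ₐ[V] Localization.Away h).toRingHom).Etale) :
    ∃ Θ : Localization.Away h →ₐ[V] DualNumber (Localization.Away h),
      (∀ b, fst (Θ b) = b) ∧ snd (Θ (gen h 0)) = gen h 0 ∧ snd (Θ (gen h 1)) = -gen h 1 ∧
      ∃ i j : Fin 2, i ≠ j ∧ snd (Θ f) ∈ Ideal.span {gen h i} := by
  obtain ⟨Θ, h1, h0, h0'⟩ := exists_theta (h := h)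
  refine ⟨Θ, h1, h0, h0', ?_⟩
  set w := algebraMap V (Localization.Away h) ϖ with hw
  -- `snd (Θ f)` is a unit away from the closed fibre
  obtain ⟨n, hn⟩ : ∃ n, w ^ n ∈ Ideal.span {snd (Θ f)} := by
    let B := Localization.Away h
    let C := Localization.Away w
    let J : Ideal C := (Ideal.span {snd (Θ f)}).map (algebraMap B C)
    suffices hJ : J = ⊤ by
      have h1' : algebraMap B C 1 ∈ J := hJ ▸ Submodule.mem_top
      obtain ⟨m, ⟨n, rfl⟩, hm⟩ := (IsLocalization.algebraMap_mem_map_algebraMap_iff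
        (Submonoid.powers w) C _ _).mp h1'
      exact ⟨n, by rwa [mul_one] at hm⟩
    have hTf : Ideal.Quotient.mk J (algebraMap B C (snd (Θ f))) = 0 :=
      Ideal.Quotient.eq_zero_iff_mem.mpr (Ideal.mem_map_of_mem _ (Ideal.subset_span rfl))
    have hx0 : algebraMap B C (snd (Θ (gen h 0))) ∈ J := Ideal.Quotient.eq_zero_iff_mem.mp
      (snd_eq_zero_of_etale (C := C) (D := C ⧸ J) (Submonoid.powers w) (Ideal.Quotient.mk J) Θ h1 f hf hTf (gen h 0))
    rw [h0] at hx0
    refine J.eq_top_of_isUnit_mem hx0 ?_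
    have hu := IsLocalization.map_units C (⟨w, 1, pow_one w⟩ : Submonoid.powers w)
    rw [show ((⟨w, 1, pow_one w⟩ : Submonoid.powers w) : B) = gen h 0 * gen h 1 from
      (gen_mul_gen (show (0 : Fin 2) ≠ 1 by decide)).symm, map_mul] at hu
    exact isUnit_of_mul_isUnit_left hu
  obtain ⟨hP, -, -⟩ := isPrime_pt hϖ hh
  by_contra! hcon
  obtain ⟨q, hq, hqP⟩ := Ideal.exists_minimalPrimes_le
    ((Ideal.span_singleton_le_iff_mem _).mpr (theta_mem_pt hϖ hh Θ h1 h0 h0' f))
  haveI := hq.isPrime
  haveI : IsNoetherianRing (N ϖ) := inferInstance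
  haveI : IsNoetherianRing (Localization.Away h) :=
    IsLocalization.isNoetherianRing (Submonoid.powers h) _ inferInstance
  have hle : q.height ≤ 1 := Ideal.height_le_one_of_isPrincipal_of_mem_minimalPrimes _ _ hq
  have hTq : snd (Θ f) ∈ q := hq.le (Ideal.subset_span rfl)
  have hwq : w ∈ q := (hq.isPrime).mem_of_pow_mem n (hq.le hn)
  have hsplit : ∃ i j : Fin 2, i ≠ j ∧ gen h i ∈ q := by
    rw [hw, ← gen_mul_gen (show (0 : Fin 2) ≠ 1 by decide)] at hwq
    rcases hq.isPrime.mem_or_mem hwq with hm | hm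
    · exact ⟨0, 1, by decide, hm⟩
    · exact ⟨1, 0, by decide, hm⟩
  obtain ⟨i, j, hij, hiq⟩ := hsplit
  rcases eq_of_between hϖ hh hij q hiq hqP with hqe | hjq
  · exact hcon i j hij (hqe ▸ hTq)
  obtain ⟨hpi, hji⟩ := isPrime_span_gen hϖ hh hij
  have hlt : Ideal.span {gen h i} < q :=
    lt_of_le_of_ne ((Ideal.span_singleton_le_iff_mem _).mpr hiq) fun he => hji (he ▸ hjq)
  haveI : (Ideal.span {gen h i}).IsPrime := hpi
  have hlt' := Ideal.height_strict_mono_of_isPrime_of_isPrime hlt
  have hz : (Ideal.span {gen h i}).height = 0 := by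
    have := hlt'.trans_le hle
    exact ENat.lt_one_iff_eq_zero.mp this
  have hmin : Ideal.span {gen h i} ∈ minimalPrimes (Localization.Away h) :=
    Ideal.height_eq_zero_iff.mp hz
  refine Set.disjoint_left.mp (Ideal.disjoint_nonZeroDivisors_of_mem_minimalPrimes hmin)
    (Ideal.subset_span rfl) ?_
  -- `ϖ` is a non-zero-divisor
  have hwN : algebraMap V (N ϖ) ϖ ∈ nonZeroDivisors (N ϖ) := by
    refine mem_nonZeroDivisors_iff_right.mpr fun a ha => ?_
    obtain ⟨g, rfl⟩ := Ideal.Quotient.mk_surjective a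
    rw [← Ideal.Quotient.mk_algebraMap, ← map_mul, Ideal.Quotient.eq_zero_iff_mem] at ha
    obtain ⟨r, hr⟩ := Ideal.mem_span_singleton'.mp ha
    have hr0 : MvPolynomial.map (residue V) r = 0 := by
      have h2 := congrArg (MvPolynomial.map (residue V)) hr
      rw [map_mul, map_mul, map_sub, map_mul, map_X, map_X, MvPolynomial.algebraMap_eq, map_C,
        (residue_eq_zero_iff ϖ).mpr ((mem_maximalIdeal _).mpr hϖ.not_isUnit), map_zero, sub_zero,
        mul_zero] at h2
      exact (mul_eq_zero.mp h2).resolve_right (mul_ne_zero (X_ne_zero _) (X_ne_zero _))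
    have hdvd : C ϖ ∣ r := by
      rw [C_dvd_iff_dvd_coeff]
      intro m
      have h2 := congrArg (coeff m) hr0
      rw [coeff_map, coeff_zero, residue_eq_zero_iff, hϖ.maximalIdeal_eq,
        Ideal.mem_span_singleton] at h2
      exact h2
    obtain ⟨r', rfl⟩ := hdvd
    rw [Ideal.Quotient.eq_zero_iff_mem, Ideal.mem_span_singleton']
    refine ⟨r', mul_left_cancel₀ (C_ne_zero.mpr hϖ.ne_zero) ?_⟩
    rw [MvPolynomial.algebraMap_eq] at hr
    linear_combination hr
  have hwB : w ∈ nonZeroDivisors (Localization.Away h) := by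
    have := IsLocalization.nonZeroDivisors_le_comap (Submonoid.powers h) (Localization.Away h) hwN
    rwa [Submonoid.mem_comap, ← IsScalarTower.algebraMap_apply] at this
  rw [hw, ← gen_mul_gen hij] at hwB
  exact (mul_mem_nonZeroDivisors.mp hwB).1

end Groth.Agent.H4Node
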